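import Cfsg.Agent.Lib.StructB.HN2HS.P352.Data

set_option autoImplicit false
set_option maxRecDepth 100000
set_option Elab.async false

namespace CfsgLib.StructB.HN2HS.P352

open CfsgLib.InvChar.Coset CfsgLib.KnownA.CosetInv

theorem chk_facts2 : cert.chkBlocks 64 128 = true := by decide +kernel

end CfsgLib.StructB.HN2HS.P352
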